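import Mathlib.RingTheory.FinitePresentation
import Mathlib.RingTheory.Localization.Away.Basic

/-!
A point of a finitely presented algebra with values in a residue field spreads to a basic
constructible piece of the base.
-/

universe u

namespace Groth.Agent.L24.CdStrat

open scoped BigOperators

theorem exists_piece {A B K : Type u} [CommRing A] [CommRing B] [Algebra A B]
    [Algebra.FinitePresentation A B] [Field K] [Algebra A K]
    (hK : ∀ z : K, ∃ a g : A, algebraMap A K g ≠ 0 ∧ z * algebraMap A K g = algebraMap A K a)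
    (φ : B →ₐ[A] K) :
    ∃ (g : A) (ι : Localization.Away g →ₐ[A] K) (J : Ideal (Localization.Away g)),
      J.FG ∧ J ≤ RingHom.ker ι ∧ Nonempty (B →ₐ[A] Localization.Away g ⧸ J) := by
  classical
  obtain ⟨n, f, hf, hker⟩ := Algebra.FinitePresentation.out (R := A) (A := B)
  choose a d hd hz using fun i : Fin n => hK (φ (f (MvPolynomial.X i)))
  let g := ∏ i, d i
  have hg : algebraMap A K g ≠ 0 := by
    rw [map_prod]
    exact Finset.prod_ne_zero_iff.2 fun i _ => hd i
  let ι : Localization.Away g →ₐ[A] K :=
    ⟨IsLocalization.Away.lift g (g := algebraMap A K) (isUnit_iff_ne_zero.2 hg),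
      fun r => IsLocalization.Away.lift_eq g _ r⟩
  have hu : ∀ i, IsUnit (algebraMap A (Localization.Away g) (d i)) := fun i => by
    refine isUnit_of_dvd_unit (map_dvd _ (Finset.dvd_prod_of_mem d (Finset.mem_univ i))) ?_
    exact IsLocalization.Away.algebraMap_isUnit g
  let c : Fin n → Localization.Away g := fun i =>
    algebraMap A (Localization.Away g) (a i) * ↑(hu i).unit⁻¹
  have hc : ι.comp (MvPolynomial.aeval c) = φ.comp f := by
    refine MvPolynomial.algHom_ext fun i => ?_
    simp only [AlgHom.comp_apply, MvPolynomial.aeval_X]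
    apply mul_right_cancel₀ (hd i)
    rw [hz i, show algebraMap A K (d i) = ι (algebraMap A (Localization.Away g) (d i)) from
      (AlgHom.commutes ι _).symm, ← map_mul]
    simp only [c, mul_assoc, IsUnit.val_inv_mul, mul_one, AlgHom.commutes]
  let J : Ideal (Localization.Away g) :=
    (RingHom.ker f.toRingHom).map (MvPolynomial.aeval c).toRingHom
  refine ⟨g, ι, J, hker.map _, ?_, ⟨(Ideal.Quotient.liftₐ (RingHom.ker f)
      ((Ideal.Quotient.mkₐ A J).comp (MvPolynomial.aeval c)) ?_).comp
      (Ideal.quotientKerAlgEquivOfSurjective hf).symm.toAlgHom⟩⟩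
  · rw [Ideal.map_le_iff_le_comap]
    intro p hp
    have h := DFunLike.congr_fun hc p
    simp only [AlgHom.comp_apply] at h
    simp only [RingHom.mem_ker, Ideal.mem_comap, AlgHom.toRingHom_eq_coe, RingHom.coe_coe] at hp ⊢
    rw [h, hp, map_zero]
  · intro p hp
    simp only [AlgHom.comp_apply, Ideal.Quotient.mkₐ_eq_mk, Ideal.Quotient.eq_zero_iff_mem]
    exact Ideal.mem_map_of_mem _ hp

end Groth.Agent.L24.CdStrat
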