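import Groth.Agent.S1440
import Groth.Agent.L19.Limit.Cons
import Groth.Agent.L19.Limit.BaseChange
import Groth.Agent.L19.Limit.Stalk
import Mathlib.AlgebraicGeometry.Morphisms.FiniteType

/-!
Complete decomposition descends along a limit of schemes.
-/

set_option linter.style.haveILetI false
set_option backward.isDefEq.respectTransparency.types false

universe u

open AlgebraicGeometry CategoryTheory CategoryTheory.Limits TopologicalSpace

namespace Groth.Agent.L24.CdStrat

variable {X0 Y0 : Scheme.{u}} (f0 : X0 ⟶ Y0)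

/-- The point `w` has a lift to `X0` rational over its residue field. -/
def Pred {W : Scheme.{u}} (p : W ⟶ Y0) (w : W) : Prop :=
  ∃ t : Spec (W.residueField w) ⟶ X0, t ≫ f0 = W.fromSpecResidueField w ≫ p

theorem Pred.comp {W W' : Scheme.{u}} {p : W ⟶ Y0} (g : W' ⟶ W) (w' : W') {p' : W' ⟶ Y0}
    (hp : g ≫ p = p') (h : Pred f0 p (g w')) : Pred f0 p' w' := by
  obtain ⟨t, ht⟩ := h
  exact ⟨Spec.map (g.residueFieldMap w') ≫ t, by
    rw [Category.assoc, ht, ← Category.assoc, Scheme.Hom.SpecMap_residueFieldMap_fromSpecResidueField,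
      Category.assoc, hp]⟩

theorem pred_of_bijective {W X : Scheme.{u}} {p : W ⟶ Y0} (f : X ⟶ W) (q : X ⟶ X0)
    (hq : q ≫ f0 = f ≫ p) (x : X) (hb : Function.Bijective (f.residueFieldMap x)) :
    Pred f0 p (f x) := by
  haveI : IsIso (f.residueFieldMap x) := (ConcreteCategory.isIso_iff_bijective _).2 hb
  refine ⟨inv (Spec.map (f.residueFieldMap x)) ≫ X.fromSpecResidueField x ≫ q, ?_⟩
  rw [Category.assoc, Category.assoc, hq, IsIso.inv_comp_eq, ← Category.assoc,
    ← Scheme.Hom.SpecMap_residueFieldMap_fromSpecResidueField, Category.assoc]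

theorem bijective_of_lift {W U : Scheme.{u}} (h : W ⟶ U) (u : U)
    (k : Spec (U.residueField u) ⟶ W) (hk : k ≫ h = U.fromSpecResidueField u) :
    ∃ w : W, h w = u ∧ Function.Bijective (h.residueFieldMap w) := by
  let K := U.residueField u
  let w : W := k (IsLocalRing.closedPoint K)
  let D : W.residueField w ⟶ K := W.descResidueField (K := K) (Scheme.stalkClosedPointTo k)
  have hD : Spec.map D ≫ W.fromSpecResidueField w = k :=
    Scheme.descResidueField_stalkClosedPointTo_fromSpecResidueField K W k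
  have hwu : h w = u := by
    show (k ≫ h) (IsLocalRing.closedPoint K) = u
    rw [hk]
    exact Scheme.fromSpecResidueField_apply u _
  refine ⟨w, hwu, (h.residueFieldMap w).hom.injective, fun z => ?_⟩
  have key : h.residueFieldMap w ≫ D = (U.residueFieldCongr hwu).hom := by
    rw [← Spec.map_inj, Spec.map_comp, ← cancel_mono (U.fromSpecResidueField _), Category.assoc,
      Scheme.Hom.SpecMap_residueFieldMap_fromSpecResidueField, ← Category.assoc, hD, hk,
      Scheme.residueFieldCongr_fromSpecResidueField]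
  obtain ⟨y, hy⟩ := (ConcreteCategory.bijective_of_isIso (U.residueFieldCongr hwu).hom).2 (D z)
  rw [← key, CommRingCat.comp_apply] at hy
  exact ⟨y, D.hom.injective hy⟩

theorem Pred.exists_bijective {W P : Scheme.{u}} {p : W ⟶ Y0} {pX : P ⟶ X0} {f : P ⟶ W}
    (hP : IsPullback pX f f0 p) {w : W} (h : Pred f0 p w) :
    ∃ x : P, f x = w ∧ Function.Bijective (f.residueFieldMap x) := by
  obtain ⟨t, ht⟩ := h
  exact bijective_of_lift f w (hP.lift t (W.fromSpecResidueField w) ht) (hP.lift_snd _ _ _)

/-- A lift over a field which is a directed union of subfields comes from one of them. -/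
theorem exists_factor [LocallyOfFiniteType f0] {J : Type*} {L : Type u} [Field L] (K : J → Type u)
    [∀ j, Field (K j)] (r : ∀ j, K j →+* L)
    (hdir : ∀ s : Finset L, ∃ j, (s : Set L) ⊆ Set.range (r j))
    (y : ∀ j, Spec (CommRingCat.of (K j)) ⟶ Y0) (t : Spec (CommRingCat.of L) ⟶ X0)
    (ht : ∀ j, Spec.map (CommRingCat.ofHom (r j)) ≫ y j = t ≫ f0) :
    ∃ (j : J) (tj : Spec (CommRingCat.of (K j)) ⟶ X0), tj ≫ f0 = y j := by
  classical
  let pt : Spec (CommRingCat.of L) := IsLocalRing.closedPoint L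
  obtain ⟨U, hU, hyU, -⟩ := exists_isAffineOpen_mem_and_subset (x := f0 (t pt)) (U := ⊤) trivial
  obtain ⟨V, hV, hxV, hVU'⟩ := exists_isAffineOpen_mem_and_subset (x := t pt) (U := f0 ⁻¹ᵁ U) hyU
  have hVU : V ≤ f0 ⁻¹ᵁ U := hVU'
  have htV : Set.range t ⊆ Set.range hV.fromSpec := by
    rintro _ ⟨a, rfl⟩
    rw [hV.range_fromSpec, Subsingleton.elim a pt]
    exact hxV
  have hyjU : ∀ j, Set.range (y j) ⊆ Set.range hU.fromSpec := fun j => by
    rintro _ ⟨a, rfl⟩
    rw [hU.range_fromSpec, Subsingleton.elim a (Spec.map (CommRingCat.ofHom (r j)) pt),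
      ← Scheme.Hom.comp_apply, ht j]
    exact hyU
  let φ := Spec.preimage (IsOpenImmersion.lift hV.fromSpec t htV)
  let a := fun j => Spec.preimage (IsOpenImmersion.lift hU.fromSpec (y j) (hyjU j))
  have hcomm : ∀ j, a j ≫ CommRingCat.ofHom (r j) = f0.appLE U V hVU ≫ φ := fun j => by
    rw [← Spec.map_inj, Spec.map_comp, Spec.map_comp, ← cancel_mono hU.fromSpec, Category.assoc,
      Category.assoc, IsAffineOpen.SpecMap_appLE_fromSpec f0 hU hV hVU]
    simp only [a, φ, Spec.map_preimage, IsOpenImmersion.lift_fac, IsOpenImmersion.lift_fac_assoc]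
    exact ht j
  letI : Algebra Γ(Y0, U) Γ(X0, V) := (f0.appLE U V hVU).hom.toAlgebra
  haveI : Algebra.FiniteType Γ(Y0, U) Γ(X0, V) := f0.finiteType_appLE hU hV hVU
  obtain ⟨s, hs⟩ := Algebra.FiniteType.out (R := Γ(Y0, U)) (A := Γ(X0, V))
  obtain ⟨j, hj⟩ := hdir (s.image φ.hom)
  have hrange : ∀ b, φ.hom b ∈ (r j).range := fun b => by
    have hb : b ∈ Algebra.adjoin Γ(Y0, U) (s : Set Γ(X0, V)) := hs ▸ Algebra.mem_top
    induction hb using Algebra.adjoin_induction with
    | mem x hx =>
      obtain ⟨k, hk⟩ := hj (Finset.mem_coe.2 (Finset.mem_image_of_mem _ hx))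
      exact ⟨k, hk⟩
    | algebraMap a' =>
      exact ⟨(a j).hom a', congr($(hcomm j) a')⟩
    | add x y _ _ hx hy => rw [map_add]; exact add_mem hx hy
    | mul x y _ _ hx hy => rw [map_mul]; exact mul_mem hx hy
  let e : K j ≃+* (r j).range := RingEquiv.ofBijective (r j).rangeRestrict
    ⟨fun _ _ h => (r j).injective (congrArg Subtype.val h), (r j).rangeRestrict_surjective⟩
  let ψ : Γ(X0, V) →+* K j := e.symm.toRingHom.comp (φ.hom.codRestrict _ hrange)
  have hψ : ∀ b, r j (ψ b) = φ.hom b := fun b =>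
    congrArg Subtype.val (e.apply_symm_apply ⟨φ.hom b, hrange b⟩)
  refine ⟨j, Spec.map (CommRingCat.ofHom ψ) ≫ hV.fromSpec, ?_⟩
  rw [Category.assoc, ← IsAffineOpen.SpecMap_appLE_fromSpec f0 hU hV hVU, ← Spec.map_comp_assoc,
    show f0.appLE U V hVU ≫ CommRingCat.ofHom ψ = a j by
      ext x
      apply (r j).injective
      exact (hψ _).trans congr($(hcomm j) x).symm]
  simp only [a, Spec.map_preimage, IsOpenImmersion.lift_fac]

/-- Near a point with a rational lift, there is a constructible set of such points. -/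
theorem exists_constructible [LocallyOfFinitePresentation f0] {W : Scheme.{u}} (p : W ⟶ Y0)
    [CompactSpace W] [QuasiSeparatedSpace W] {w : W} (h : Pred f0 p w) :
    ∃ C : Set W, Topology.IsConstructible C ∧ w ∈ C ∧ ∀ v ∈ C, Pred f0 p v := by
  obtain ⟨x, rfl, hb⟩ := h.exists_bijective f0 (IsPullback.of_hasPullback f0 p)
  obtain ⟨Z, z, hmem, hZc, hzi, hzl, σ, hσ⟩ :=
    Groth.Agent.S1440.exists_piece (pullback.snd f0 p) x hb
  haveI := hZc; haveI := hzi; haveI := hzl
  refine ⟨Set.range z, ?_, hmem, ?_⟩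
  · rw [← Set.image_univ]
    exact z.isConstructible_image .univ
  rintro _ ⟨v, rfl⟩
  refine pred_of_bijective f0 z (σ ≫ pullback.fst f0 p) ?_ v
    ⟨(z.residueFieldMap v).hom.injective, fun a => ?_⟩
  · rw [Category.assoc, pullback.condition, reassoc_of% hσ]
  · obtain ⟨b, rfl⟩ := Scheme.residue_surjective Z v a
    obtain ⟨c, rfl⟩ := z.stalkMap_surjective v b
    exact ⟨W.residue (z v) c, congr($(Scheme.residue_residueFieldMap z v) c)⟩

open Groth.L19.Limit in
/-- Complete decomposition descends to some stage. -/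
theorem exists_stage [LocallyOfFinitePresentation f0] {I : Type u} [SmallCategory I] [IsCofiltered I]
    {D : I ⥤ Scheme.{u}} {c : Cone D} (hc : IsLimit c) [∀ {i j} (f : i ⟶ j), IsAffineHom (D.map f)]
    {i0 : I} (q0 : Y0 ⟶ D.obj i0) [CompactSpace Y0] [QuasiSeparatedSpace Y0]
    (h : ∀ s : ↥(pullback (c.π.app i0) q0), Pred f0 (pullback.snd (c.π.app i0) q0) s) :
    ∃ (j : I) (φ : j ⟶ i0), ∀ w : ↥(pullback (D.map φ) q0), Pred f0 (pullback.snd (D.map φ) q0) w := by
  haveI : ∀ j : Over i0, IsAffineHom (pullback.snd (D.map j.hom) q0) := fun j =>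
    MorphismProperty.pullback_snd (P := @IsAffineHom) _ _ inferInstance
  haveI hcs : ∀ j : Over i0, CompactSpace ((bcDiagram D q0).obj j) := fun j => by
    haveI := this j
    show CompactSpace ↥(pullback (D.map j.hom) q0)
    exact QuasiCompact.compactSpace_of_compactSpace (pullback.snd (D.map j.hom) q0)
  haveI hqs : ∀ j : Over i0, QuasiSeparatedSpace ((bcDiagram D q0).obj j) := fun j => by
    haveI := this j
    show QuasiSeparatedSpace ↥(pullback (D.map j.hom) q0)
    exact quasiSeparatedSpace_of_quasiSeparated (pullback.snd (D.map j.hom) q0)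
  let p : ∀ j : Over i0, (bcDiagram D q0).obj j ⟶ Y0 := fun j => pullback.snd _ _
  have hp : ∀ {j k : Over i0} (a : j ⟶ k), (bcDiagram D q0).map a ≫ p k = p j := fun a =>
    (pullback.lift_snd _ _ _).trans (Category.comp_id _)
  have hπ : ∀ j : Over i0, (bcCone D c q0).π.app j ≫ p j = pullback.snd (c.π.app i0) q0 := fun j =>
    (pullback.lift_snd _ _ _).trans (Category.comp_id _)
  by_contra hne
  push Not at hne
  obtain ⟨s, hs⟩ := exists_mem_of_cc (isLimitBcCone q0 hc) (i := Over.mk (𝟙 i0))
    (fun j _ => {w | ¬ Pred f0 (p j) w})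
    (fun j _ => by
      have e : {w | ¬ Pred f0 (p j) w} = ⋂ C : {C : Set ((bcDiagram D q0).obj j) //
          Topology.IsConstructible C ∧ ∀ v ∈ C, Pred f0 (p j) v}, C.1ᶜ := by
        ext w
        simp only [Set.mem_ofPred_eq, Set.mem_iInter, Set.mem_compl_iff]
        refine ⟨fun hw C hC => hw (C.2.2 w hC), fun hw hP => ?_⟩
        obtain ⟨C, hC, hwC, hCP⟩ := exists_constructible f0 (p j) hP
        exact hw ⟨C, hC, hCP⟩ hwC
      rw [e]
      exact CC.iInter fun C => cc_compl_of_isConstructible C.2.1)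
    (fun j _ => hne j.left j.hom)
    (fun j k a _ w hw hk => hw (hk.comp f0 ((bcDiagram D q0).map a) w (hp a)))
  obtain ⟨t, ht⟩ := h s
  haveI : ∀ {j k : Over i0} (a : j ⟶ k), IsAffineHom ((bcDiagram D q0).map a) := inferInstance
  obtain ⟨j, tj, htj⟩ := exists_factor f0 (L := (bcCone D c q0).pt.residueField s)
    (fun j : Over i0 => ((bcDiagram D q0).obj j).residueField ((bcCone D c q0).π.app j s))
    (fun j => (((bcCone D c q0).π.app j).residueFieldMap s).hom)
    (fun F => by
      classical
      have hall : ∀ a : (bcCone D c q0).pt.residueField s, ∃ (j : Over i0) (b : _),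
          ((bcCone D c q0).π.app j).residueFieldMap s b = a := fun a => by
        obtain ⟨a', rfl⟩ := Scheme.residue_surjective _ s a
        obtain ⟨j, b, hb⟩ := exists_stalkMap_eq (isLimitBcCone q0 hc) s a'
        exact ⟨j, Scheme.residue _ _ b, by
          rw [← hb]
          exact congr($(Scheme.residue_residueFieldMap ((bcCone D c q0).π.app j) s) b)⟩
      choose jj bb hbb using hall
      obtain ⟨k, hk⟩ := IsCofiltered.inf_objs_exists (F.image jj)
      refine ⟨k, fun a ha => ?_⟩
      obtain ⟨ψ⟩ := hk (Finset.mem_image_of_mem jj (Finset.mem_coe.1 ha))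
      have hw := (bcCone D c q0).w ψ
      have e : (bcDiagram D q0).map ψ ((bcCone D c q0).π.app k s) = (bcCone D c q0).π.app (jj a) s :=
        map_apply ψ s
      refine ⟨((bcDiagram D q0).map ψ).residueFieldMap _
        ((Scheme.residueFieldCongr e.symm).hom (bb a)), ?_⟩
      have key : (Scheme.residueFieldCongr e.symm).hom ≫
          ((bcDiagram D q0).map ψ).residueFieldMap _ ≫ ((bcCone D c q0).π.app k).residueFieldMap s =
          ((bcCone D c q0).π.app (jj a)).residueFieldMap s := by
        rw [← Spec.map_inj, Spec.map_comp, Spec.map_comp, ← cancel_mono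
          (((bcDiagram D q0).obj (jj a)).fromSpecResidueField _)]
        simp only [Category.assoc, Scheme.residueFieldCongr_fromSpecResidueField,
          Scheme.Hom.SpecMap_residueFieldMap_fromSpecResidueField,
          Scheme.Hom.SpecMap_residueFieldMap_fromSpecResidueField_assoc]
        rw [hw]
        rfl
      exact (congr($key (bb a))).trans (hbb a))
    (fun j => ((bcDiagram D q0).obj j).fromSpecResidueField _ ≫ p j) t
    (fun j => by
      rw [CommRingCat.ofHom_hom, ← Category.assoc,
        Scheme.Hom.SpecMap_residueFieldMap_fromSpecResidueField, Category.assoc, hπ]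
      exact ht.symm)
  exact hs j (Over.homMk j.hom (by simp)) ⟨tj, htj⟩

end Groth.Agent.L24.CdStrat
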